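import Mathlib

set_option autoImplicit false

/-!
# Gallai's lemma on three-coloured complete graphs without rainbow triangles

If the pairs of a finite set with at least two members are coloured with three colours, and no
triangle gets three different colours, then one of the colours is disconnected: there is a cut of
the set with no edge of that colour across.
-/

namespace Cfsg.Agent.Lib.Helper1.Gallai

variable {V : Type*} [DecidableEq V]

/-- colour `i` is connected on the finite set `s`: every cut of `s` has an edge of colour `i`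
across -/
def Conn (c : V → V → Fin 3) (i : Fin 3) (s : Finset V) : Prop :=
  ∀ t : Finset V, t ⊆ s → t.Nonempty → (s \ t).Nonempty → ∃ a ∈ t, ∃ b ∈ s \ t, c a b = i

/-- `t` is closed in `s` for colour `i`: no edge of colour `i` leaves `t` inside `s` -/
def Closed (c : V → V → Fin 3) (i : Fin 3) (s t : Finset V) : Prop :=
  t ⊆ s ∧ ∀ a ∈ t, ∀ b ∈ s, b ∉ t → c a b ≠ i

/-- a symmetric colouring without rainbow triangles -/
structure Gal (c : V → V → Fin 3) : Prop where
  symm : ∀ x y, c x y = c y x
  nr : ∀ x y z, x ≠ y → y ≠ z → x ≠ z → c x y = c y z ∨ c y z = c x z ∨ c x y = c x z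

variable {c : V → V → Fin 3}

theorem Closed.inter {i : Fin 3} {s t t' : Finset V} (h : Closed c i s t) (h' : Closed c i s t') :
    Closed c i s (t ∩ t') := by
  refine ⟨fun a ha => h.1 (Finset.mem_inter.mp ha).1, ?_⟩
  intro a ha b hb hbn
  rw [Finset.mem_inter] at ha
  by_cases hbt : b ∈ t
  · have : b ∉ t' := fun hh => hbn (Finset.mem_inter.mpr ⟨hbt, hh⟩)
    exact h'.2 a ha.2 b hb this
  · exact h.2 a ha.1 b hb hbt

theorem Closed.compl (hc : Gal c) {i : Fin 3} {s t : Finset V} (h : Closed c i s t) :
    Closed c i s (s \ t) := by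
  refine ⟨Finset.sdiff_subset, ?_⟩
  intro a ha b hb hbn
  rw [Finset.mem_sdiff] at ha
  have hbt : b ∈ t := by
    by_contra hh
    exact hbn (Finset.mem_sdiff.mpr ⟨hb, hh⟩)
  rw [hc.symm]
  exact h.2 b hbt a ha.1 ha.2

theorem Closed.self (c : V → V → Fin 3) (i : Fin 3) (s : Finset V) : Closed c i s s :=
  ⟨subset_rfl, fun _ _ b hb hbn => absurd hb hbn⟩

theorem exists_min_closed (c : V → V → Fin 3) (i : Fin 3) (s : Finset V) {x : V} (hx : x ∈ s) :
    ∃ A, Closed c i s A ∧ x ∈ A ∧ ∀ A', Closed c i s A' → x ∈ A' → A.card ≤ A'.card := by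
  classical
  have hne : (s.powerset.filter (fun A => Closed c i s A ∧ x ∈ A)).Nonempty :=
    ⟨s, by
      rw [Finset.mem_filter, Finset.mem_powerset]
      exact ⟨subset_rfl, Closed.self c i s, hx⟩⟩
  obtain ⟨A, hA, hmin⟩ := Finset.exists_min_image _ Finset.card hne
  rw [Finset.mem_filter] at hA
  refine ⟨A, hA.2.1, hA.2.2, ?_⟩
  intro A' hA' hx'
  apply hmin
  rw [Finset.mem_filter, Finset.mem_powerset]
  exact ⟨hA'.1, hA', hx'⟩

theorem const_on_min (hc : Gal c) {i : Fin 3} {s A : Finset V} {x : V} (hA : Closed c i s A)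
    (hx : x ∈ A) (hmin : ∀ A', Closed c i s A' → x ∈ A' → A.card ≤ A'.card) {b : V} (hb : b ∈ s)
    (hbA : b ∉ A) : ∀ a ∈ A, c a b = c x b := by
  classical
  have hcl : Closed c i s (A.filter (fun a => c a b = c x b)) := by
    refine ⟨fun a ha => hA.1 (Finset.mem_filter.mp ha).1, ?_⟩
    intro a ha e he hen
    rw [Finset.mem_filter] at ha
    by_cases heA : e ∈ A
    · have hne : c e b ≠ c x b := fun hh => hen (Finset.mem_filter.mpr ⟨heA, hh⟩)
      intro hae
      have h1 : c a b ≠ i := hA.2 a ha.1 b hb hbA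
      have h2 : c e b ≠ i := hA.2 e heA b hb hbA
      have hae' : a ≠ e := by
        rintro rfl
        exact hne ha.2
      have heb : e ≠ b := by
        rintro rfl
        exact hbA heA
      have hab : a ≠ b := by
        rintro rfl
        exact hbA ha.1
      rcases hc.nr a e b hae' heb hab with h | h | h
      · exact h2 (h ▸ hae)
      · exact hne (h.trans ha.2)
      · exact h1 (h ▸ hae)
    · exact hA.2 a ha.1 e he heA
  have hsub : A.filter (fun a => c a b = c x b) ⊆ A := Finset.filter_subset _ _
  have hxm : x ∈ A.filter (fun a => c a b = c x b) := Finset.mem_filter.mpr ⟨hx, rfl⟩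
  have heq := Finset.eq_of_subset_of_card_le hsub (hmin _ hcl hxm)
  intro a ha
  rw [← heq] at ha
  exact (Finset.mem_filter.mp ha).2

theorem edge_of_closed (hc : Gal c) {i l : Fin 3} {s T : Finset V} {v a0 q : V}
    (hT : Closed c i s T) (hv : v ∉ s) (ha0 : a0 ∈ T) (hav : c a0 v = i) (hq : q ∈ s)
    (hqT : q ∉ T) (hvq : c v q = l) (hli : l ≠ i) : c a0 q = l := by
  have h1 : c a0 q ≠ i := hT.2 a0 ha0 q hq hqT
  have hva : v ≠ a0 := by
    rintro rfl
    exact hv (hT.1 ha0)
  have haq : a0 ≠ q := by
    rintro rfl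
    exact hqT ha0
  have hvq' : v ≠ q := by
    rintro rfl
    exact hv hq
  rcases hc.nr v a0 q hva haq hvq' with h | h | h
  · exfalso
    apply h1
    rw [← h, hc.symm]
    exact hav
  · rw [h, hvq]
  · exfalso
    apply hli
    rw [← hvq, ← h, hc.symm]
    exact hav

theorem fin3_colours (i : Fin 3) : i + 1 ≠ i ∧ i + 2 ≠ i ∧ i + 1 ≠ i + 2 := by
  revert i
  decide

/-- **Gallai's lemma**: some colour is disconnected -/
theorem gallai (hc : Gal c) : ∀ n : ℕ, 2 ≤ n → ∀ s : Finset V, s.card = n →
    ∃ i, ¬ Conn c i s := by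
  intro n hn
  induction n, hn using Nat.le_induction with
  | base =>
    intro s hs
    obtain ⟨x, y, hxy, rfl⟩ := Finset.card_eq_two.mp hs
    refine ⟨c x y + 1, ?_⟩
    intro hconn
    have h1 : ({x} : Finset V) ⊆ {x, y} := by
      intro a ha
      rw [Finset.mem_singleton] at ha
      rw [ha]
      exact Finset.mem_insert_self _ _
    have h2 : (({x, y} : Finset V) \ {x}).Nonempty := by
      refine ⟨y, ?_⟩
      rw [Finset.mem_sdiff, Finset.mem_singleton]
      exact ⟨by simp, hxy.symm⟩
    obtain ⟨a, ha, b, hb, hab⟩ := hconn {x} h1 (Finset.singleton_nonempty x) h2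
    rw [Finset.mem_singleton] at ha
    rw [Finset.mem_sdiff, Finset.mem_singleton, Finset.mem_insert, Finset.mem_singleton] at hb
    have hby : b = y := by
      rcases hb.1 with h | h
      · exact absurd h hb.2
      · exact h
    rw [ha, hby] at hab
    exact (fin3_colours (c x y)).1 hab.symm
  | succ n hn ih =>
    intro s hs
    by_contra hall
    push Not at hall
    have hsne : s.Nonempty := by
      rw [← Finset.card_pos]
      omega
    obtain ⟨v, hv⟩ := hsne
    have hcard' : (s.erase v).card = n := by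
      rw [Finset.card_erase_of_mem hv, hs]
      rfl
    obtain ⟨i, hi⟩ := ih (s.erase v) hcard'
    have hvs' : v ∉ s.erase v := Finset.notMem_erase v s
    obtain ⟨hji, hli, hjl⟩ := fin3_colours i
    -- the cut of `s.erase v` without edges of colour `i`
    unfold Conn at hi
    push Not at hi
    obtain ⟨t, hts, htne, htc, hcut⟩ := hi
    have htcl : Closed c i (s.erase v) t := by
      refine ⟨hts, ?_⟩
      intro a ha b hb hbt
      exact hcut a ha b (Finset.mem_sdiff.mpr ⟨hb, hbt⟩)
    -- every nonempty closed subset of `s.erase v` has an edge of colour `i` to `v`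
    have hv_edge : ∀ T : Finset V, Closed c i (s.erase v) T → T.Nonempty →
        ∃ a ∈ T, c a v = i := by
      intro T hT hTne
      have hTs : T ⊆ s := fun a ha => Finset.mem_of_mem_erase (hT.1 ha)
      have hvT : v ∉ T := fun hh => hvs' (hT.1 hh)
      obtain ⟨a, ha, b, hb, hab⟩ := hall i T hTs hTne ⟨v, Finset.mem_sdiff.mpr ⟨hv, hvT⟩⟩
      rw [Finset.mem_sdiff] at hb
      by_cases hbv : b = v
      · exact ⟨a, ha, hbv ▸ hab⟩
      · exact absurd hab (hT.2 a ha b (Finset.mem_erase.mpr ⟨hbv, hb.1⟩) hb.2)
    -- `v` has edges of the two other colours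
    have hv_col : ∀ j : Fin 3, ∃ x ∈ s.erase v, c v x = j := by
      intro j
      have h1 : ({v} : Finset V) ⊆ s := by
        intro a ha
        rw [Finset.mem_singleton] at ha
        rw [ha]
        exact hv
      have h2 : (s \ {v}).Nonempty := by
        rw [← Finset.card_pos, Finset.card_sdiff_of_subset h1, Finset.card_singleton, hs]
        omega
      obtain ⟨a, ha, b, hb, hab⟩ := hall j {v} h1 (Finset.singleton_nonempty v) h2
      rw [Finset.mem_singleton] at ha
      rw [Finset.mem_sdiff, Finset.mem_singleton] at hb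
      exact ⟨b, Finset.mem_erase.mpr ⟨hb.2, hb.1⟩, ha ▸ hab⟩
    obtain ⟨x, hx, hvx⟩ := hv_col (i + 1)
    obtain ⟨y, hy, hvy⟩ := hv_col (i + 2)
    obtain ⟨A, hA, hxA, hAmin⟩ := exists_min_closed c i (s.erase v) hx
    -- `A` is a proper subset
    have hAne : (s.erase v \ A).Nonempty := by
      by_contra hempty
      rw [Finset.not_nonempty_iff_eq_empty, Finset.sdiff_eq_empty_iff_subset] at hempty
      have hAeq : A = s.erase v := Finset.Subset.antisymm hA.1 hempty
      by_cases hxt : x ∈ t
      · have := hAmin t htcl hxt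
        have hlt : t.card < (s.erase v).card := by
          apply Finset.card_lt_card
          refine ⟨hts, ?_⟩
          intro hsub
          obtain ⟨b, hb⟩ := htc
          rw [Finset.mem_sdiff] at hb
          exact hb.2 (hsub hb.1)
        rw [hAeq] at this
        omega
      · have hxt' : x ∈ s.erase v \ t := Finset.mem_sdiff.mpr ⟨hx, hxt⟩
        have := hAmin _ (htcl.compl hc) hxt'
        have hlt : (s.erase v \ t).card < (s.erase v).card := by
          apply Finset.card_lt_card
          refine ⟨Finset.sdiff_subset, ?_⟩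
          intro hsub
          obtain ⟨b, hb⟩ := htne
          have := hsub (hts hb)
          rw [Finset.mem_sdiff] at this
          exact this.2 hb
        rw [hAeq] at this
        omega
    have hBcl : Closed c i (s.erase v) (s.erase v \ A) := hA.compl hc
    by_cases hyA : y ∈ A
    · obtain ⟨b0, hb0, hb0v⟩ := hv_edge _ hBcl hAne
      have hb0' := Finset.mem_sdiff.mp hb0
      have hxB : x ∉ s.erase v \ A := fun hh => (Finset.mem_sdiff.mp hh).2 hxA
      have hyB : y ∉ s.erase v \ A := fun hh => (Finset.mem_sdiff.mp hh).2 hyA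
      have e1 : c b0 x = i + 1 := edge_of_closed hc hBcl hvs' hb0 hb0v hx hxB hvx hji
      have e2 : c b0 y = i + 2 := edge_of_closed hc hBcl hvs' hb0 hb0v hy hyB hvy hli
      have e3 : c y b0 = c x b0 := const_on_min hc hA hxA hAmin hb0'.1 hb0'.2 y hyA
      rw [hc.symm y b0, hc.symm x b0, e1, e2] at e3
      exact hjl e3.symm
    · -- `y` outside the component of `x`
      obtain ⟨a0, ha0, ha0v⟩ := hv_edge A hA ⟨x, hxA⟩
      have e1 : c a0 y = i + 2 := edge_of_closed hc hA hvs' ha0 ha0v hy hyA hvy hli
      have e2 : c a0 y = c x y := const_on_min hc hA hxA hAmin hy hyA a0 ha0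
      obtain ⟨A', hA', hyA', hA'min⟩ := exists_min_closed c i (s.erase v) hy
      have hxA' : x ∉ A' := by
        intro hxA'
        have hcl := hA'.inter hBcl
        have hym : y ∈ A' ∩ (s.erase v \ A) :=
          Finset.mem_inter.mpr ⟨hyA', Finset.mem_sdiff.mpr ⟨hy, hyA⟩⟩
        have hle := hA'min _ hcl hym
        have heq := Finset.eq_of_subset_of_card_le Finset.inter_subset_left hle
        rw [← heq] at hxA'
        exact (Finset.mem_sdiff.mp (Finset.mem_inter.mp hxA').2).2 hxA
      obtain ⟨a1, ha1, ha1v⟩ := hv_edge A' hA' ⟨y, hyA'⟩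
      have e3 : c a1 x = i + 1 := edge_of_closed hc hA' hvs' ha1 ha1v hx hxA' hvx hji
      have e4 : c a1 x = c y x := const_on_min hc hA' hyA' hA'min hx hxA' a1 ha1
      rw [e1] at e2
      rw [e3, hc.symm y x, ← e2] at e4
      exact hjl e4

end Cfsg.Agent.Lib.Helper1.Gallai
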