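import Mathlib
import Cfsg.Prelude
import Cfsg.Agent.Lib.Helper9.TT9t
import Cfsg.Agent.Lib.Helper1.Rank3.Gallai

set_option autoImplicit false

/-!
# Primitive classes of 3-transpositions: three invariant relations cannot tile the pairs without a
rainbow triangle

For a group acting primitively by conjugation on a class `D`, every nonempty invariant symmetric
relation on `D` is connected.  Together with Gallai's lemma this forbids a partition of the pairs
of `D` into three nonempty invariant symmetric relations without a rainbow triangle.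
-/

namespace Cfsg.Agent.Lib.Helper1.Rank3

open Cfsg Cfsg.Agent.H9TT Cfsg.Agent.Lib.Helper1.Gallai

variable {G : Type*} [Group G] {D : Set G}

/-- a relation on `G` that lives on `D`, is irreflexive, symmetric and invariant under conjugation -/
structure InvRel (D : Set G) (E : G → G → Prop) : Prop where
  mem : ∀ x y, E x y → x ∈ D ∧ y ∈ D
  ne : ∀ x y, E x y → x ≠ y
  symm : ∀ x y, E x y → E y x
  conj : ∀ g x y, E x y → E (g * x * g⁻¹) (g * y * g⁻¹)

theorem reach_mem {E : G → G → Prop} (hE : InvRel D E) {a b : G} (ha : a ∈ D)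
    (hr : Relation.ReflTransGen E a b) : b ∈ D := by
  induction hr with
  | refl => exact ha
  | tail _ hbc _ => exact (hE.mem _ _ hbc).2

theorem reach_conj {E : G → G → Prop} (hE : InvRel D E) (g : G) {a b : G}
    (hr : Relation.ReflTransGen E a b) :
    Relation.ReflTransGen E (g * a * g⁻¹) (g * b * g⁻¹) := by
  induction hr with
  | refl => exact Relation.ReflTransGen.refl
  | tail _ hbc ih => exact ih.tail (hE.conj g _ _ hbc)

theorem reach_symm {E : G → G → Prop} (hE : InvRel D E) {a b : G}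
    (hr : Relation.ReflTransGen E a b) : Relation.ReflTransGen E b a := by
  induction hr with
  | refl => exact Relation.ReflTransGen.refl
  | tail _ hbc ih => exact Relation.ReflTransGen.head (hE.symm _ _ hbc) ih

theorem reach_blk {E : G → G → Prop} (hE : InvRel D E) (a : G) :
    Blk {y | Relation.ReflTransGen E a y} := by
  intro g
  by_cases hdis : Disjoint (cj g {y | Relation.ReflTransGen E a y})
      {y | Relation.ReflTransGen E a y}
  · exact Or.inr hdis
  · left
    rw [Set.not_disjoint_iff] at hdis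
    obtain ⟨u, hu1, hu2⟩ := hdis
    rw [mem_cj] at hu1
    have hu1' : Relation.ReflTransGen E a (g⁻¹ * u * g) := hu1
    have hu2' : Relation.ReflTransGen E a u := hu2
    have h1 : Relation.ReflTransGen E (g * a * g⁻¹) u := by
      have := reach_conj hE g hu1'
      have e : g * (g⁻¹ * u * g) * g⁻¹ = u := by group
      rwa [e] at this
    have h2 : Relation.ReflTransGen E a (g * a * g⁻¹) := hu2'.trans (reach_symm hE h1)
    ext y
    rw [mem_cj]
    constructor
    · intro hy
      have hy' : Relation.ReflTransGen E a (g⁻¹ * y * g) := hy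
      have := reach_conj hE g hy'
      have e : g * (g⁻¹ * y * g) * g⁻¹ = y := by group
      rw [e] at this
      exact h2.trans this
    · intro hy
      have hy' : Relation.ReflTransGen E a y := hy
      have h3 : Relation.ReflTransGen E (g * a * g⁻¹) y := (reach_symm hE h2).trans hy'
      have := reach_conj hE g⁻¹ h3
      have e : g⁻¹ * (g * a * g⁻¹) * g⁻¹⁻¹ = a := by group
      have e' : g⁻¹ * y * g⁻¹⁻¹ = g⁻¹ * y * g := by group
      rw [e, e'] at this
      exact this

/-- in the primitive case every nonempty invariant relation is connected -/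
theorem reach_all (h : TC D) (hprim : IsPrimitiveUnderConj D) {E : G → G → Prop}
    (hE : InvRel D E) (hne : ∃ x y, E x y) {a b : G} (ha : a ∈ D) (hb : b ∈ D) :
    Relation.ReflTransGen E a b := by
  obtain ⟨x, y, hxy⟩ := hne
  obtain ⟨g, hg⟩ := h.hclass x (hE.mem _ _ hxy).1 a ha
  have hay : E a (g * y * g⁻¹) := hg ▸ hE.conj g x y hxy
  have hBD : {y | Relation.ReflTransGen E a y} ⊆ D := fun y hy => reach_mem hE ha hy
  have hB := reach_blk hE a
  have heq : {y | Relation.ReflTransGen E a y} = D :=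
    eq_of_primitive hprim hBD hB (a := a) (b := g * y * g⁻¹) Relation.ReflTransGen.refl
      (Relation.ReflTransGen.single hay) (hE.ne _ _ hay)
  have hb' : b ∈ {y | Relation.ReflTransGen E a y} := by
    rw [heq]
    exact hb
  exact hb'

theorem exists_cross {E : G → G → Prop} {a b : G} (hr : Relation.ReflTransGen E a b) (S : Set G)
    (ha : a ∈ S) (hb : b ∉ S) : ∃ x y, x ∈ S ∧ y ∉ S ∧ E x y := by
  induction hr with
  | refl => exact absurd ha hb
  | @tail b' c' _ hbc ih =>
    by_cases hb' : b' ∈ S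
    · exact ⟨b', c', hb', hb, hbc⟩
    · exact ih hb'

/-- the colour of a pair -/
noncomputable def col (E1 E2 : G → G → Prop) (x y : G) : Fin 3 := by
  classical
  exact if E1 x y then 1 else if E2 x y then 2 else 0

theorem col_eq_one {E1 E2 : G → G → Prop} {x y : G} : col E1 E2 x y = 1 ↔ E1 x y := by
  unfold col
  by_cases h1 : E1 x y <;> by_cases h2 : E2 x y <;> simp [h1, h2]

theorem col_eq_two {E1 E2 : G → G → Prop} {x y : G} :
    col E1 E2 x y = 2 ↔ ¬ E1 x y ∧ E2 x y := by
  unfold col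
  by_cases h1 : E1 x y <;> by_cases h2 : E2 x y <;> simp [h1, h2]

theorem col_eq_zero {E1 E2 : G → G → Prop} {x y : G} :
    col E1 E2 x y = 0 ↔ ¬ E1 x y ∧ ¬ E2 x y := by
  unfold col
  by_cases h1 : E1 x y <;> by_cases h2 : E2 x y <;> simp [h1, h2]

theorem fin3_cases (u : Fin 3) : u = 0 ∨ u = 1 ∨ u = 2 := by
  revert u
  decide

/-- three nonempty invariant relations cannot tile the pairs of `D` without a rainbow triangle -/
theorem no_three_colours [Finite G] (h : TC D) (hprim : IsPrimitiveUnderConj D)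
    {E0 E1 E2 : G → G → Prop} (h0 : InvRel D E0) (h1 : InvRel D E1) (h2 : InvRel D E2)
    (hcover : ∀ x ∈ D, ∀ y ∈ D, x ≠ y → E0 x y ∨ E1 x y ∨ E2 x y)
    (h01 : ∀ x y, E0 x y → ¬ E1 x y) (h02 : ∀ x y, E0 x y → ¬ E2 x y)
    (h12 : ∀ x y, E1 x y → ¬ E2 x y)
    (hne0 : ∃ x y, E0 x y) (hne1 : ∃ x y, E1 x y) (hne2 : ∃ x y, E2 x y)
    (hnr : ∀ x y z, E0 x y → E1 y z → E2 x z → False) : False := by
  classical
  have : Fintype ↥D := Fintype.ofFinite _
  obtain ⟨c, hcdef⟩ : ∃ c : ↥D → ↥D → Fin 3,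
      c = fun (x y : ↥D) => col E1 E2 (x : G) (y : G) := ⟨_, rfl⟩
  have c0 : ∀ x y : ↥D, c x y = 0 ↔ ¬ E1 (x : G) y ∧ ¬ E2 (x : G) y := by
    intro x y
    rw [hcdef]
    exact col_eq_zero
  have c1 : ∀ x y : ↥D, c x y = 1 ↔ E1 (x : G) y := by
    intro x y
    rw [hcdef]
    exact col_eq_one
  have c2 : ∀ x y : ↥D, c x y = 2 ↔ ¬ E1 (x : G) y ∧ E2 (x : G) y := by
    intro x y
    rw [hcdef]
    exact col_eq_two
  have csymm : ∀ x y : ↥D, c x y = c y x := by
    intro x y
    rcases fin3_cases (c y x) with u | u | u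
    · rw [u, c0]
      rw [c0] at u
      exact ⟨fun hh => u.1 (h1.symm _ _ hh), fun hh => u.2 (h2.symm _ _ hh)⟩
    · rw [u, c1]
      rw [c1] at u
      exact h1.symm _ _ u
    · rw [u, c2]
      rw [c2] at u
      exact ⟨fun hh => u.1 (h1.symm _ _ hh), h2.symm _ _ u.2⟩
  have key : ∀ p q r : ↥D, p ≠ q → c p q = 0 → c q r = 1 → c p r = 2 → False := by
    intro p q r hpq u v w
    rw [c0] at u
    rw [c1] at v
    rw [c2] at w
    have hpq' : (p : G) ≠ q := fun hh => hpq (Subtype.ext hh)
    rcases hcover p p.2 q q.2 hpq' with e | e | e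
    · exact hnr p q r e v w.2
    · exact u.1 e
    · exact u.2 e
  have hGal : Gal c := by
    refine ⟨csymm, ?_⟩
    intro x y z hxy hyz hxz
    by_contra hcon
    push Not at hcon
    obtain ⟨n1, n2, n3⟩ := hcon
    rcases fin3_cases (c x y) with u | u | u <;> rcases fin3_cases (c y z) with v | v | v <;>
      rcases fin3_cases (c x z) with w | w | w
    all_goals first
      | exact n1 (u.trans v.symm)
      | exact n2 (v.trans w.symm)
      | exact n3 (u.trans w.symm)
      | exact key x y z hxy u v w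
      | exact key y x z hxy.symm ((csymm y x).trans u) w v
      | exact key z y x hyz.symm ((csymm z y).trans v) ((csymm y x).trans u) ((csymm z x).trans w)
      | exact key z x y hxz.symm ((csymm z x).trans w) u ((csymm z y).trans v)
      | exact key y z x hyz v ((csymm z x).trans w) ((csymm y x).trans u)
      | exact key x z y hxz w ((csymm z y).trans v) u
  have hconn : ∀ i, Conn c i Finset.univ := by
    intro i t _ htne htc
    obtain ⟨a, ha⟩ := htne
    obtain ⟨b, hb⟩ := htc
    rw [Finset.mem_sdiff] at hb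
    have cross : ∀ E : G → G → Prop, InvRel D E → (∃ x y, E x y) →
        ∃ x ∈ t, ∃ y ∈ Finset.univ \ t, E (x : G) (y : G) := by
      intro E hE hne
      have haS : (a : G) ∈ {g : G | ∃ hg : g ∈ D, (⟨g, hg⟩ : ↥D) ∈ t} := ⟨a.2, ha⟩
      have hbS : (b : G) ∉ {g : G | ∃ hg : g ∈ D, (⟨g, hg⟩ : ↥D) ∈ t} := by
        rintro ⟨hg, hm⟩
        exact hb.2 hm
      obtain ⟨x, y, hx, hy, hxy⟩ :=
        exists_cross (reach_all h hprim hE hne a.2 b.2) _ haS hbS
      obtain ⟨hxD, hxt⟩ := hx
      have hyD := (hE.mem _ _ hxy).2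
      refine ⟨⟨x, hxD⟩, hxt, ⟨y, hyD⟩, ?_, hxy⟩
      rw [Finset.mem_sdiff]
      exact ⟨Finset.mem_univ _, fun hm => hy ⟨hyD, hm⟩⟩
    rcases fin3_cases i with rfl | rfl | rfl
    · obtain ⟨x, hx, y, hy, hxy⟩ := cross E0 h0 hne0
      exact ⟨x, hx, y, hy, (c0 x y).mpr ⟨h01 _ _ hxy, h02 _ _ hxy⟩⟩
    · obtain ⟨x, hx, y, hy, hxy⟩ := cross E1 h1 hne1
      exact ⟨x, hx, y, hy, (c1 x y).mpr hxy⟩
    · obtain ⟨x, hx, y, hy, hxy⟩ := cross E2 h2 hne2
      exact ⟨x, hx, y, hy, (c2 x y).mpr ⟨fun hh => h12 _ _ hh hxy, hxy⟩⟩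
  have hcard : 2 ≤ (Finset.univ : Finset ↥D).card := by
    obtain ⟨a, ha, b, hb, hab⟩ := hprim.2.1
    rw [Nat.succ_le_iff, Finset.one_lt_card]
    exact ⟨⟨a, ha⟩, Finset.mem_univ _, ⟨b, hb⟩, Finset.mem_univ _,
      fun hh => hab (congrArg Subtype.val hh)⟩
  obtain ⟨i, hi⟩ := gallai hGal _ hcard Finset.univ rfl
  exact hi (hconn i)

end Cfsg.Agent.Lib.Helper1.Rank3
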