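import Mathlib
import Cfsg.Prelude
import Cfsg.Agent.Lib.Helper9.TT9t
import Cfsg.Agent.Lib.Helper1.Rank3.Conn

set_option autoImplicit false

/-!
# Fischer's rank three property for primitive classes of 3-transpositions

If `G` acts primitively by conjugation on a class `D` of 3-transpositions of width at least two,
then the centraliser of a member `a` of `D` is transitive on the members commuting with `a` and on
the members not commuting with `a`.
-/

namespace Cfsg.Agent.Lib.Helper1.Rank3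

open Cfsg Cfsg.Agent.H9TT

variable {G : Type*} [Group G] {D : Set G}

theorem perm4_id1 : Commute (Equiv.swap (0 : Fin 4) 3 * Equiv.swap 1 2) (Equiv.swap 1 2) := by
  show _ * _ = _ * _
  decide

theorem perm4_id2 : (Equiv.swap (0 : Fin 4) 3 * Equiv.swap 1 2) * Equiv.swap 0 1 *
    (Equiv.swap 0 3 * Equiv.swap 1 2)⁻¹ = Equiv.swap 2 3 := by
  decide

theorem perm4_id3 : (Equiv.swap (0 : Fin 4) 2 * Equiv.swap 1 3) * Equiv.swap 0 1 *
    (Equiv.swap 0 2 * Equiv.swap 1 3)⁻¹ = Equiv.swap 2 3 := by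
  decide

theorem perm4_id4 : (Equiv.swap (0 : Fin 4) 2 * Equiv.swap 1 3) * Equiv.swap 2 3 *
    (Equiv.swap 0 2 * Equiv.swap 1 3)⁻¹ = Equiv.swap 0 1 := by
  decide

/-- in the `S_4` configuration `x - z - y` an element centralising `z` carries `x` to `y` -/
theorem s4_conj (h : TT D) {x y z : G} (hx : x ∈ D) (hy : y ∈ D) (hz : z ∈ D) (hxy : x ≠ y)
    (hc : Commute x y) (hxz : ¬ Commute x z) (hzy : ¬ Commute z y) :
    ∃ u : G, Commute u z ∧ u * x * u⁻¹ = y := by
  obtain ⟨φ, -, rfl, rfl, rfl⟩ := Cfsg.Agent.S5344.result h.hset hx hz hy hxy hc hxz hzy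
  refine ⟨φ (Equiv.swap 0 3 * Equiv.swap 1 2), ?_, ?_⟩
  · exact perm4_id1.map φ
  · have := congrArg φ perm4_id2
    simpa only [map_mul, map_inv] using this

/-- in the `S_4` configuration `a - z - b` some element interchanges `a` and `b` -/
theorem s4_swap (h : TT D) {a b z : G} (ha : a ∈ D) (hb : b ∈ D) (hz : z ∈ D) (hab : a ≠ b)
    (hc : Commute a b) (haz : ¬ Commute a z) (hzb : ¬ Commute z b) :
    ∃ w : G, w * a * w⁻¹ = b ∧ w * b * w⁻¹ = a := by
  obtain ⟨φ, -, rfl, rfl, rfl⟩ := Cfsg.Agent.S5344.result h.hset ha hz hb hab hc haz hzb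
  refine ⟨φ (Equiv.swap 0 2 * Equiv.swap 1 3), ?_, ?_⟩
  · have := congrArg φ perm4_id3
    simpa only [map_mul, map_inv] using this
  · have := congrArg φ perm4_id4
    simpa only [map_mul, map_inv] using this

/-- two non-commuting members of `D` are interchanged by the third member of their line -/
theorem s3_swap (h : TT D) {p q : G} (hp : p ∈ D) (hq : q ∈ D) (hn : ¬ Commute p q) :
    (p * q * p) * p * (p * q * p)⁻¹ = q ∧ (p * q * p) * q * (p * q * p)⁻¹ = p := by
  have sp := h.sq hp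
  have sq' := h.sq hq
  have br := h.braid hp hq hn
  have hinv : (p * q * p)⁻¹ = p * q * p := by
    rw [mul_inv_rev, mul_inv_rev, h.inv hp, h.inv hq, mul_assoc]
  rw [hinv]
  constructor
  · calc p * q * p * p * (p * q * p) = p * q * (p * p) * (p * q * p) := by simp only [mul_assoc]
      _ = p * q * (p * q * p) := by rw [sp, mul_one]
      _ = p * q * (q * p * q) := by rw [br]
      _ = p * (q * q) * p * q := by simp only [mul_assoc]
      _ = p * p * q := by rw [sq', mul_one]
      _ = q := by rw [sp, one_mul]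
  · calc p * q * p * q * (p * q * p) = q * p * q * q * (p * q * p) := by rw [br]
      _ = q * p * (q * q) * (p * q * p) := by simp only [mul_assoc]
      _ = q * p * (p * q * p) := by rw [sq', mul_one]
      _ = q * (p * p) * q * p := by simp only [mul_assoc]
      _ = q * q * p := by rw [sp, mul_one]
      _ = p := by rw [sq', one_mul]

/-- two different commuting members of `D` have a common non-neighbour in the commuting graph -/
theorem exists_noncomm_both (h : TC D) {a b : G} (ha : a ∈ D) (hb : b ∈ D) (hab : a ≠ b) :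
    ∃ z ∈ D, ¬ Commute a z ∧ ¬ Commute z b := by
  by_contra hcon
  push Not at hcon
  have hD2 : ∃ a ∈ D, ∃ b ∈ D, a ≠ b := ⟨a, ha, b, hb, hab⟩
  -- the set of members `x` such that every member of `D` commutes with `x` or with `b`
  have hstep : ∀ e ∈ D, ∀ x' : G, (x' ∈ D ∧ ∀ y ∈ D, ¬ Commute x' y → Commute y b) →
      (e * x' * e⁻¹ ∈ D ∧ ∀ y ∈ D, ¬ Commute (e * x' * e⁻¹) y → Commute y b) := by
    intro e he x' hk
    by_cases hex : Commute e x'
    · have e2 : e * x' * e⁻¹ = x' := by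
        rw [hex.eq, mul_assoc, mul_inv_cancel, mul_one]
      rw [e2]
      exact hk
    · have heb : Commute e b := hk.2 e he (fun hh => hex hh.symm)
      refine ⟨h.hconj e x' hk.1, ?_⟩
      intro y hy hny
      have hy' : e⁻¹ * y * e ∈ D := h.toTT.hconj' e y hy
      have hny' : ¬ Commute x' (e⁻¹ * y * e) :=
        fun hh => hny ((TT.commute_conj_iff e x' y).mpr hh)
      have h3 : Commute (e⁻¹ * y * e) b := hk.2 _ hy' hny'
      -- conjugate back by `e`, which commutes with `b`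
      have h4 : Commute (e * (e⁻¹ * y * e) * e⁻¹) b := by
        apply (TT.commute_conj_iff e (e⁻¹ * y * e) b).mpr
        have e3 : e⁻¹ * b * e = b := by
          rw [mul_assoc, ← heb.eq, ← mul_assoc, inv_mul_cancel, one_mul]
        rw [e3]
        exact h3
      have e4 : e * (e⁻¹ * y * e) * e⁻¹ = y := by group
      rwa [e4] at h4
  have hS : ∀ g : G, ∀ x : G, (x ∈ D ∧ ∀ y ∈ D, ¬ Commute x y → Commute y b) →
      (g * x * g⁻¹ ∈ D ∧ ∀ y ∈ D, ¬ Commute (g * x * g⁻¹) y → Commute y b) := by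
    intro g
    have hg : g ∈ Subgroup.closure D := by
      rw [h.hgen]
      exact Subgroup.mem_top g
    induction hg using Subgroup.closure_induction_left with
    | one =>
      intro x hx
      simpa using hx
    | mul_left e he k _ ih =>
      intro x hx
      have e1 : e * k * x * (e * k)⁻¹ = e * (k * x * k⁻¹) * e⁻¹ := by group
      rw [e1]
      exact hstep e he _ (ih x hx)
    | inv_mul_cancel e he k _ ih =>
      intro x hx
      have e1 : e⁻¹ * k * x * (e⁻¹ * k)⁻¹ = e⁻¹ * (k * x * k⁻¹) * (e⁻¹)⁻¹ := by group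
      rw [e1, h.inv he]
      exact hstep e he _ (ih x hx)
  obtain ⟨g, hg⟩ := h.hclass a ha b hb
  have haS : a ∈ D ∧ ∀ y ∈ D, ¬ Commute a y → Commute y b := ⟨ha, fun y hy hn => hcon y hy hn⟩
  have hbS := hS g a haS
  rw [hg] at hbS
  apply h.not_mem_center hD2 hb
  apply h.mem_center
  intro e he
  by_cases hbe : Commute b e
  · exact hbe.symm
  · exact hbS.2 e he hbe


/-- the commuting pairs of different members of `D` -/
def EC (D : Set G) : G → G → Prop := fun x y => x ∈ D ∧ y ∈ D ∧ x ≠ y ∧ Commute x y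

/-- the non-commuting pairs of members of `D` -/
def EN (D : Set G) : G → G → Prop := fun x y => x ∈ D ∧ y ∈ D ∧ ¬ Commute x y

/-- the orbit of the ordered pair `(a, b)` under simultaneous conjugation -/
def EO (a b : G) : G → G → Prop := fun x y => ∃ g : G, g * a * g⁻¹ = x ∧ g * b * g⁻¹ = y

theorem invRel_EC (h : TT D) : InvRel D (EC D) := by
  refine ⟨fun x y hh => ⟨hh.1, hh.2.1⟩, fun x y hh => hh.2.2.1,
    fun x y hh => ⟨hh.2.1, hh.1, hh.2.2.1.symm, hh.2.2.2.symm⟩, ?_⟩
  intro g x y hh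
  refine ⟨h.hconj g x hh.1, h.hconj g y hh.2.1, ?_, (Commute.conj_iff g).mpr hh.2.2.2⟩
  intro e
  apply hh.2.2.1
  have := congrArg (fun t => g⁻¹ * t * g) e
  simpa [mul_assoc] using this

theorem invRel_EN (h : TT D) : InvRel D (EN D) := by
  refine ⟨fun x y hh => ⟨hh.1, hh.2.1⟩, ?_,
    fun x y hh => ⟨hh.2.1, hh.1, fun hc => hh.2.2 hc.symm⟩, ?_⟩
  · rintro x y hh rfl
    exact hh.2.2 (Commute.refl x)
  · intro g x y hh
    exact ⟨h.hconj g x hh.1, h.hconj g y hh.2.1, fun hc => hh.2.2 ((Commute.conj_iff g).mp hc)⟩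

theorem EO_conj {a b : G} (g x y : G) (hh : EO a b x y) : EO a b (g * x * g⁻¹) (g * y * g⁻¹) := by
  obtain ⟨k, rfl, rfl⟩ := hh
  exact ⟨g * k, by group, by group⟩

theorem invRel_EO (h : TT D) {a b : G} (ha : a ∈ D) (hb : b ∈ D) (hab : a ≠ b)
    (hswap : ∃ w : G, w * a * w⁻¹ = b ∧ w * b * w⁻¹ = a) : InvRel D (EO a b) := by
  refine ⟨?_, ?_, ?_, EO_conj⟩
  · rintro x y ⟨g, rfl, rfl⟩
    exact ⟨h.hconj g a ha, h.hconj g b hb⟩
  · rintro x y ⟨g, rfl, rfl⟩ e
    apply hab
    have := congrArg (fun t => g⁻¹ * t * g) e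
    simpa [mul_assoc] using this
  · rintro x y ⟨g, rfl, rfl⟩
    obtain ⟨w, hw1, hw2⟩ := hswap
    refine ⟨g * w, ?_, ?_⟩
    · rw [← hw1]
      group
    · rw [← hw2]
      group

theorem invRel_diff {E O : G → G → Prop} (hE : InvRel D E) (hO : InvRel D O) :
    InvRel D (fun x y => E x y ∧ ¬ O x y) := by
  refine ⟨fun x y hh => hE.mem x y hh.1, fun x y hh => hE.ne x y hh.1,
    fun x y hh => ⟨hE.symm x y hh.1, fun ho => hh.2 (hO.symm y x ho)⟩, ?_⟩
  intro g x y hh
  refine ⟨hE.conj g x y hh.1, ?_⟩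
  intro ho
  apply hh.2
  have := hO.conj g⁻¹ _ _ ho
  have e1 : g⁻¹ * (g * x * g⁻¹) * g⁻¹⁻¹ = x := by group
  have e2 : g⁻¹ * (g * y * g⁻¹) * g⁻¹⁻¹ = y := by group
  rwa [e1, e2] at this

/-- transitivity of the centraliser of `a` on the members of `D` not commuting with `a` -/
theorem trans_noncomm [Finite G] (h : TC D) (hprim : IsPrimitiveUnderConj D)
    (hw : ∃ a ∈ D, ∃ b ∈ D, a ≠ b ∧ Commute a b) {a c1 c2 : G} (ha : a ∈ D) (hc1 : c1 ∈ D)
    (hc2 : c2 ∈ D) (hn1 : ¬ Commute a c1) (hn2 : ¬ Commute a c2) :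
    ∃ g : G, Commute g a ∧ g * c1 * g⁻¹ = c2 := by
  by_contra hcon
  push Not at hcon
  have hac1 : a ≠ c1 := by
    rintro rfl
    exact hn1 (Commute.refl a)
  have hO : InvRel D (EO a c1) :=
    invRel_EO h.toTT ha hc1 hac1 ⟨a * c1 * a, (s3_swap h.toTT ha hc1 hn1).1,
      (s3_swap h.toTT ha hc1 hn1).2⟩
  have hC : InvRel D (EC D) := invRel_EC h.toTT
  have hN : InvRel D (EN D) := invRel_EN h.toTT
  -- members of the orbit do not commute
  have hOn : ∀ x y, EO a c1 x y → ¬ Commute x y := by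
    rintro x y ⟨g, rfl, rfl⟩ hc
    exact hn1 ((Commute.conj_iff g).mp hc)
  apply no_three_colours h hprim hC hO (invRel_diff hN hO)
  · intro x hx y hy hxy
    by_cases hc : Commute x y
    · exact Or.inl ⟨hx, hy, hxy, hc⟩
    · by_cases ho : EO a c1 x y
      · exact Or.inr (Or.inl ho)
      · exact Or.inr (Or.inr ⟨⟨hx, hy, hc⟩, ho⟩)
  · intro x y hh ho
    exact hOn x y ho hh.2.2.2
  · intro x y hh hh'
    exact hh'.1.2.2 hh.2.2.2
  · intro x y ho hh'
    exact hh'.2 ho
  · obtain ⟨p, hp, q, hq, hpq, hc⟩ := hw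
    exact ⟨p, q, hp, hq, hpq, hc⟩
  · exact ⟨a, c1, 1, by group, by group⟩
  · refine ⟨a, c2, ⟨ha, hc2, hn2⟩, ?_⟩
    rintro ⟨g, hg1, hg2⟩
    apply hcon g _ hg2
    show g * a = a * g
    calc g * a = g * a * g⁻¹ * g := by group
      _ = a * g := by rw [hg1]
  · -- no rainbow triangle
    intro x y z hxy hyz hxz
    -- `x`, `y` commute, `(y, z)` lies in the orbit, `(x, z)` does not
    obtain ⟨hx, hy, hne, hc⟩ := hxy
    have hzD : z ∈ D := (hO.mem _ _ hyz).2
    have hyz' : ¬ Commute y z := hOn y z hyz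
    have hxz' : ¬ Commute x z := hxz.1.2.2
    obtain ⟨u, hu1, hu2⟩ := s4_conj h.toTT hy hx hzD hne.symm hc.symm hyz'
      (fun hh => hxz' hh.symm)
    apply hxz.2
    have := EO_conj u y z hyz
    rw [hu2] at this
    have e : u * z * u⁻¹ = z := by
      rw [hu1.eq, mul_assoc, mul_inv_cancel, mul_one]
    rwa [e] at this

/-- transitivity of the centraliser of `a` on the members of `D` commuting with `a` -/
theorem trans_comm [Finite G] (h : TC D) (hprim : IsPrimitiveUnderConj D)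
    {a b1 b2 : G} (ha : a ∈ D) (hb1 : b1 ∈ D) (hb2 : b2 ∈ D) (hne1 : b1 ≠ a) (hne2 : b2 ≠ a)
    (hc1 : Commute a b1) (hc2 : Commute a b2) :
    ∃ g : G, Commute g a ∧ g * b1 * g⁻¹ = b2 := by
  by_contra hcon
  push Not at hcon
  obtain ⟨z, hz, hz1, hz2⟩ := exists_noncomm_both h ha hb1 hne1.symm
  have hO : InvRel D (EO a b1) :=
    invRel_EO h.toTT ha hb1 hne1.symm (s4_swap h.toTT ha hb1 hz hne1.symm hc1 hz1 hz2)
  have hC : InvRel D (EC D) := invRel_EC h.toTT
  have hN : InvRel D (EN D) := invRel_EN h.toTT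
  have hOc : ∀ x y, EO a b1 x y → Commute x y := by
    rintro x y ⟨g, rfl, rfl⟩
    exact (Commute.conj_iff g).mpr hc1
  apply no_three_colours h hprim hN hO (invRel_diff hC hO)
  · intro x hx y hy hxy
    by_cases hc : Commute x y
    · by_cases ho : EO a b1 x y
      · exact Or.inr (Or.inl ho)
      · exact Or.inr (Or.inr ⟨⟨hx, hy, hxy, hc⟩, ho⟩)
    · exact Or.inl ⟨hx, hy, hc⟩
  · intro x y hh ho
    exact hh.2.2 (hOc x y ho)
  · intro x y hh hh'
    exact hh.2.2 hh'.1.2.2.2
  · intro x y ho hh'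
    exact hh'.2 ho
  · exact ⟨a, z, ha, hz, hz1⟩
  · exact ⟨a, b1, 1, by group, by group⟩
  · refine ⟨a, b2, ⟨ha, hb2, hne2.symm, hc2⟩, ?_⟩
    rintro ⟨g, hg1, hg2⟩
    apply hcon g _ hg2
    show g * a = a * g
    calc g * a = g * a * g⁻¹ * g := by group
      _ = a * g := by rw [hg1]
  · -- no rainbow triangle
    intro x y z' hxy hyz hxz
    -- `x`, `y` do not commute, `(y, z')` lies in the orbit, `(x, z')` commute, outside the orbit
    obtain ⟨hx, hy, hn⟩ := hxy
    have hyz' : Commute y z' := hOc y z' hyz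
    have hxz' : Commute x z' := hxz.1.2.2.2
    obtain ⟨s1, s2⟩ := s3_swap h.toTT hx hy hn
    apply hxz.2
    have := EO_conj (x * y * x) y z' hyz
    rw [s2] at this
    have hcomm : Commute (x * y * x) z' := (hxz'.mul_left hyz').mul_left hxz'
    have e : x * y * x * z' * (x * y * x)⁻¹ = z' := by
      rw [hcomm.eq, mul_assoc, mul_inv_cancel, mul_one]
    rwa [e] at this

end Cfsg.Agent.Lib.Helper1.Rank3
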