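import Mathlib
import Cfsg.Prelude
import Cfsg.Agent.Lib.Helper9.TT9t
import Cfsg.Agent.Lib.Helper1.Rank3.Main

set_option autoImplicit false

/-!
# Maximum commuting sets of 3-transpositions

A commuting subset `E` of maximum size of a class `D` of 3-transpositions is `D ∩ S` for a Sylow
2-subgroup `S`; its normaliser contains `S` and, in the primitive case, is doubly transitive on `E`.
-/

namespace Cfsg.Agent.Lib.Helper1.Rank3

open Cfsg Cfsg.Agent.H9TT
open scoped Pointwise

variable {G : Type*} [Group G] {D : Set G}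

/-- members of `D` lying in a common 2-subgroup commute -/
theorem commute_of_mem_two_group (h : TT D) {T : Subgroup G} (hT : IsPGroup 2 T) {a b : G}
    (ha : a ∈ D) (hb : b ∈ D) (haT : a ∈ T) (hbT : b ∈ T) : Commute a b := by
  by_contra hn
  have h3 := h.cube ha hb hn
  obtain ⟨k, hk⟩ := hT ⟨a * b, T.mul_mem haT hbT⟩
  have hk' : (a * b) ^ (2 ^ k) = 1 := by
    have := congrArg Subtype.val hk
    simpa using this
  have hord : orderOf (a * b) ∣ Nat.gcd (2 ^ k) 3 :=
    Nat.dvd_gcd (orderOf_dvd_of_pow_eq_one hk') (orderOf_dvd_of_pow_eq_one h3)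
  have hg : Nat.gcd (2 ^ k) 3 = 1 := Nat.Coprime.pow_left k (by norm_num)
  rw [hg, Nat.dvd_one, orderOf_eq_one_iff] at hord
  apply hn
  have hab : a = b := by
    rw [← h.inv hb]
    exact eq_inv_of_mul_eq_one_left hord
  rw [hab]

/-- a commuting subset of `D` generates a 2-group -/
theorem closure_isPGroup_two (h : TT D) {E : Set G} (hE : E ⊆ D)
    (hc : ∀ a ∈ E, ∀ b ∈ E, Commute a b) : IsPGroup 2 (Subgroup.closure E) := by
  have h1 : Subgroup.closure E ≤ Subgroup.centralizer E := by
    rw [Subgroup.closure_le]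
    intro e he
    rw [SetLike.mem_coe, Subgroup.mem_centralizer_iff]
    intro e' he'
    exact (hc e' he' e he).eq
  have hcomm : ∀ x ∈ Subgroup.closure E, ∀ y ∈ Subgroup.closure E, Commute x y := by
    intro x hx y hy
    have h2 : Subgroup.closure E ≤ Subgroup.centralizer {x} := by
      rw [Subgroup.closure_le]
      intro e he
      rw [SetLike.mem_coe, Subgroup.mem_centralizer_singleton_iff]
      exact (Subgroup.mem_centralizer_iff.mp (h1 hx) e he)
    have := h2 hy
    rw [Subgroup.mem_centralizer_singleton_iff] at this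
    exact this.symm
  have hsq : ∀ x ∈ Subgroup.closure E, x * x = 1 := by
    intro x hx
    induction hx using Subgroup.closure_induction with
    | mem x hx => exact h.sq (hE hx)
    | one => simp
    | mul x y hx hy ihx ihy =>
      have hxy : Commute x y := hcomm x hx y hy
      calc x * y * (x * y) = x * (y * x) * y := by simp only [mul_assoc]
        _ = x * (x * y) * y := by rw [hxy.eq]
        _ = (x * x) * (y * y) := by simp only [mul_assoc]
        _ = 1 := by rw [ihx, ihy, one_mul]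
    | inv x hx ihx =>
      calc x⁻¹ * x⁻¹ = (x * x)⁻¹ := by rw [mul_inv_rev]
        _ = 1 := by rw [ihx, inv_one]
  intro g
  refine ⟨1, ?_⟩
  apply Subtype.ext
  rw [pow_one, pow_two]
  exact hsq g.1 g.2

/-- a 2-subgroup containing a maximum commuting set `E` meets `D` exactly in `E` -/
theorem mem_of_mem_two_group [Finite G] (h : TT D) {E : Set G} (hE : E ⊆ D)
    (hmax : ∀ E' : Set G, E' ⊆ D → (∀ a ∈ E', ∀ b ∈ E', Commute a b) → E'.ncard ≤ E.ncard)
    {T : Subgroup G} (hT : IsPGroup 2 T) (hET : E ⊆ T) {x : G} (hx : x ∈ D) (hxT : x ∈ T) :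
    x ∈ E := by
  have hsub : E ⊆ {y | y ∈ D ∧ y ∈ T} := fun y hy => ⟨hE hy, hET hy⟩
  have hcomm : ∀ a ∈ {y | y ∈ D ∧ y ∈ T}, ∀ b ∈ {y | y ∈ D ∧ y ∈ T}, Commute a b :=
    fun a ha b hb => commute_of_mem_two_group h hT ha.1 hb.1 ha.2 hb.2
  have hle := hmax _ (fun y hy => hy.1) hcomm
  have heq : E = {y | y ∈ D ∧ y ∈ T} := Set.eq_of_subset_of_ncard_le hsub hle (Set.toFinite _)
  rw [heq]
  exact ⟨hx, hxT⟩

/-- an element conjugating the finite set `E` into itself normalises it -/
theorem mem_normalizer_of_maps_into [Finite G] {E : Set G} {x : G}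
    (hx : ∀ e ∈ E, x * e * x⁻¹ ∈ E) : x ∈ Subgroup.normalizer E := by
  have hinj : Function.Injective (fun e : G => x * e * x⁻¹) := by
    intro a b hab
    simpa using hab
  have himg : (fun e : G => x * e * x⁻¹) '' E = E := by
    apply Set.eq_of_subset_of_ncard_le
    · rintro _ ⟨e, he, rfl⟩
      exact hx e he
    · rw [Set.ncard_image_of_injective E hinj]
    · exact Set.toFinite _
  rw [Subgroup.mem_set_normalizer_iff]
  intro n
  constructor
  · exact hx n
  · intro hn
    rw [← himg] at hn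
    obtain ⟨e, he, hen⟩ := hn
    have : e = n := hinj hen
    rw [← this]
    exact he

/-- Sylow transfer: if `E` and its conjugate under `g` both lie in the subgroup `C`, then some
element of `C` corrects `g` to an element normalising `E` -/
theorem exists_normalizing [Finite G] (h : TT D) {E : Set G} (hE : E ⊆ D)
    (hc : ∀ a ∈ E, ∀ b ∈ E, Commute a b)
    (hmax : ∀ E' : Set G, E' ⊆ D → (∀ a ∈ E', ∀ b ∈ E', Commute a b) → E'.ncard ≤ E.ncard)
    (C : Subgroup G) (hEC : E ⊆ C) (g : G) (hgC : ∀ e ∈ E, g * e * g⁻¹ ∈ C) :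
    ∃ k ∈ C, k * g ∈ Subgroup.normalizer E := by
  have : Fact (Nat.Prime 2) := ⟨Nat.prime_two⟩
  obtain ⟨E', hE'def⟩ : ∃ E' : Set G, E' = (fun e => g * e * g⁻¹) '' E := ⟨_, rfl⟩
  have hE'D : E' ⊆ D := by
    rw [hE'def]
    rintro _ ⟨e, he, rfl⟩
    exact h.hconj g e (hE he)
  have hE'c : ∀ a ∈ E', ∀ b ∈ E', Commute a b := by
    rw [hE'def]
    rintro _ ⟨a, ha, rfl⟩ _ ⟨b, hb, rfl⟩
    exact (Commute.conj_iff g).mpr (hc a ha b hb)
  have hQ : IsPGroup 2 ((Subgroup.closure E).subgroupOf C) :=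
    (closure_isPGroup_two h hE hc).comap_subtype
  have hQ' : IsPGroup 2 ((Subgroup.closure E').subgroupOf C) :=
    (closure_isPGroup_two h hE'D hE'c).comap_subtype
  obtain ⟨T, hT⟩ := hQ.exists_le_sylow
  obtain ⟨T', hT'⟩ := hQ'.exists_le_sylow
  obtain ⟨k, hk⟩ := MulAction.exists_smul_eq ↥C T' T
  refine ⟨k, k.2, ?_⟩
  -- the image of `T` in `G`
  have hTG : IsPGroup 2 ((T : Subgroup ↥C).map C.subtype) := T.isPGroup'.map C.subtype
  have hET : E ⊆ ((T : Subgroup ↥C).map C.subtype) := by
    intro e he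
    refine ⟨⟨e, hEC he⟩, hT ?_, rfl⟩
    rw [Subgroup.mem_subgroupOf]
    exact Subgroup.subset_closure he
  apply mem_normalizer_of_maps_into
  intro e he
  apply mem_of_mem_two_group h hE hmax hTG hET
  · exact h.hconj (k * g) e (hE he)
  · -- `g e g⁻¹` lies in `T'`, so its conjugate under `k` lies in `T`
    have h1 : (⟨g * e * g⁻¹, hgC e he⟩ : ↥C) ∈ (T' : Subgroup ↥C) := by
      apply hT'
      rw [Subgroup.mem_subgroupOf]
      apply Subgroup.subset_closure
      rw [hE'def]
      exact ⟨e, he, rfl⟩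
    have h2 : MulAut.conj k • (⟨g * e * g⁻¹, hgC e he⟩ : ↥C) ∈
        MulAut.conj k • (T' : Subgroup ↥C) := Subgroup.smul_mem_pointwise_smul _ _ _ h1
    rw [← Sylow.coe_subgroup_smul, hk] at h2
    refine ⟨_, h2, ?_⟩
    rw [MulAut.smul_def, MulAut.conj_apply]
    simp only [Subgroup.coe_subtype, Subgroup.coe_mul, Subgroup.coe_inv, mul_inv_rev]
    group

/-- **Fischer**: the normaliser of a maximum commuting set of 3-transpositions -/
theorem max_comm_normalizer [Finite G] (h : TC D) (hprim : IsPrimitiveUnderConj D) {E : Set G}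
    (hE : E ⊆ D) (hc : ∀ a ∈ E, ∀ b ∈ E, Commute a b)
    (hmax : ∀ E' : Set G, E' ⊆ D → (∀ a ∈ E', ∀ b ∈ E', Commute a b) → E'.ncard ≤ E.ncard) :
    (∃ P : Sylow 2 G, (P : Subgroup G) ≤ Subgroup.normalizer E) ∧
      ∀ a ∈ E, ∀ b ∈ E, ∀ c ∈ E, ∀ d ∈ E, a ≠ b → c ≠ d →
        ∃ g ∈ Subgroup.normalizer E, g * a * g⁻¹ = c ∧ g * b * g⁻¹ = d := by
  have : Fact (Nat.Prime 2) := ⟨Nat.prime_two⟩
  constructor
  · obtain ⟨P, hP⟩ := (closure_isPGroup_two h.toTT hE hc).exists_le_sylow
    refine ⟨P, ?_⟩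
    intro x hx
    apply mem_normalizer_of_maps_into
    intro e he
    have heP : e ∈ (P : Subgroup G) := hP (Subgroup.subset_closure he)
    exact mem_of_mem_two_group h.toTT hE hmax P.isPGroup'
      (fun y hy => hP (Subgroup.subset_closure hy)) (h.hconj x e (hE he))
      ((P : Subgroup G).mul_mem ((P : Subgroup G).mul_mem hx heP) ((P : Subgroup G).inv_mem hx))
  · -- transitivity
    have htrans : ∀ a ∈ E, ∀ c ∈ E, ∃ n ∈ Subgroup.normalizer E, n * a * n⁻¹ = c := by
      intro a ha c hcE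
      obtain ⟨g, hg⟩ := h.hclass a (hE ha) c (hE hcE)
      have hEC : E ⊆ (Subgroup.centralizer {c} : Subgroup G) := by
        intro e he
        rw [SetLike.mem_coe, Subgroup.mem_centralizer_singleton_iff]
        exact (hc e he c hcE).eq
      have hgC : ∀ e ∈ E, g * e * g⁻¹ ∈ (Subgroup.centralizer {c} : Subgroup G) := by
        intro e he
        rw [Subgroup.mem_centralizer_singleton_iff, ← hg]
        exact ((Commute.conj_iff g).mpr (hc e he a ha)).eq
      obtain ⟨k, hkC, hkn⟩ := exists_normalizing h.toTT hE hc hmax _ hEC g hgC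
      refine ⟨k * g, hkn, ?_⟩
      rw [Subgroup.mem_centralizer_singleton_iff] at hkC
      calc k * g * a * (k * g)⁻¹ = k * (g * a * g⁻¹) * k⁻¹ := by group
        _ = k * c * k⁻¹ := by rw [hg]
        _ = c := by rw [hkC, mul_assoc, mul_inv_cancel, mul_one]
    intro a ha b hb c hcE d hd hab hcd
    obtain ⟨n1, hn1, hn1a⟩ := htrans a ha c hcE
    -- the image of `b`
    obtain ⟨b', hb'def⟩ : ∃ b', b' = n1 * b * n1⁻¹ := ⟨_, rfl⟩
    have hb'E : b' ∈ E := by
      rw [hb'def]
      exact (Subgroup.mem_set_normalizer_iff.mp hn1 b).mp hb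
    have hb'c : b' ≠ c := by
      rw [hb'def, ← hn1a]
      intro e
      apply hab
      have := congrArg (fun t => n1⁻¹ * t * n1) e
      simpa [mul_assoc] using this.symm
    obtain ⟨g, hgc, hgb⟩ := trans_comm h hprim (hE hcE) (hE hb'E) (hE hd) hb'c hcd.symm
      (hc c hcE b' hb'E) (hc c hcE d hd)
    have hgc' : g * c * g⁻¹ = c := by
      rw [hgc.eq, mul_assoc, mul_inv_cancel, mul_one]
    have hEC : E ⊆ (Subgroup.centralizer {c, d} : Subgroup G) := by
      intro e he
      rw [SetLike.mem_coe, Subgroup.mem_centralizer_iff]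
      intro y hy
      rcases hy with rfl | rfl
      · exact (hc y hcE e he).eq
      · exact (hc y hd e he).eq
    have hgC : ∀ e ∈ E, g * e * g⁻¹ ∈ (Subgroup.centralizer {c, d} : Subgroup G) := by
      intro e he
      rw [Subgroup.mem_centralizer_iff]
      intro y hy
      rcases hy with rfl | rfl
      · have := (Commute.conj_iff g).mpr (hc y hcE e he)
        rw [hgc'] at this
        exact this.eq
      · have := (Commute.conj_iff g).mpr (hc b' hb'E e he)
        rw [hgb] at this
        exact this.eq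
    obtain ⟨k, hkC, hkn⟩ := exists_normalizing h.toTT hE hc hmax _ hEC g hgC
    rw [Subgroup.mem_centralizer_iff] at hkC
    have hkc : k * c * k⁻¹ = c := by
      have := hkC c (by simp)
      rw [← this, mul_assoc, mul_inv_cancel, mul_one]
    have hkd : k * d * k⁻¹ = d := by
      have := hkC d (by simp)
      rw [← this, mul_assoc, mul_inv_cancel, mul_one]
    refine ⟨k * g * n1, (Subgroup.normalizer E).mul_mem hkn hn1, ?_, ?_⟩
    · calc k * g * n1 * a * (k * g * n1)⁻¹ = k * (g * (n1 * a * n1⁻¹) * g⁻¹) * k⁻¹ := by group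
        _ = c := by rw [hn1a, hgc', hkc]
    · calc k * g * n1 * b * (k * g * n1)⁻¹ = k * (g * (n1 * b * n1⁻¹) * g⁻¹) * k⁻¹ := by group
        _ = d := by rw [← hb'def, hgb, hkd]

end Cfsg.Agent.Lib.Helper1.Rank3
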