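import Mathlib
import Cfsg.Prelude
import Cfsg.Agent.Lib.Helper9.TT9t
import Cfsg.Agent.S5346

set_option autoImplicit false

/-!
# Classes of 3-transpositions in a group with non-abelian simple commutator subgroup

Such a class has width at least two and the group acts primitively on it by conjugation (no
hypothesis on the centre).
-/

namespace Cfsg.Agent.Lib.Helper1.Rank3

open Cfsg Cfsg.Agent.H9TT Cfsg.Agent.Lib.Helper9 Cfsg.Agent.Lib.Helper3
open scoped commutatorElement

variable {G : Type*} [Group G] {D : Set G}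

/-- a non-abelian finite simple group is not a `p`-group -/
theorem not_isPGroup_of_simple {S : Type*} [Group S] [Finite S] (hs : IsSimpleGroup S)
    (hn : ∃ x y : S, x * y ≠ y * x) (p : ℕ) [Fact p.Prime] : ¬ IsPGroup p S := by
  intro hp
  have : Nontrivial S := IsSimpleGroup.toNontrivial
  have hc : Nontrivial ↥(Subgroup.center S) := hp.center_nontrivial
  have hne : Subgroup.center S ≠ ⊥ := (Subgroup.nontrivial_iff_ne_bot _).mp hc
  rcases (inferInstance : (Subgroup.center S).Normal).eq_bot_or_eq_top with h1 | h1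
  · exact hne h1
  · obtain ⟨x, y, hxy⟩ := hn
    apply hxy
    have hy : y ∈ Subgroup.center S := h1 ▸ Subgroup.mem_top y
    exact Subgroup.mem_center_iff.mp hy x

/-- if `G` is generated by `a` and a normal subgroup `N` then `N` contains the commutator
subgroup -/
theorem commutator_le_of_zpowers_sup {N : Subgroup G} [hN : N.Normal] {a : G}
    (hsup : Subgroup.zpowers a ⊔ N = ⊤) : commutator G ≤ N := by
  rw [commutator_def, Subgroup.commutator_le]
  intro g1 _ g2 _
  have key : ∀ g : G, ∃ k : ℤ, (QuotientGroup.mk' N) g = (QuotientGroup.mk' N a) ^ k := by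
    intro g
    have hg : g ∈ ((Subgroup.zpowers a ⊔ N : Subgroup G) : Set G) := by
      rw [hsup]
      exact Set.mem_univ g
    rw [Subgroup.mul_normal, Set.mem_mul] at hg
    obtain ⟨y, hy, z, hz, rfl⟩ := hg
    obtain ⟨k, rfl⟩ := Subgroup.mem_zpowers_iff.mp hy
    refine ⟨k, ?_⟩
    rw [map_mul, map_zpow, QuotientGroup.mk'_apply, QuotientGroup.mk'_apply,
      (QuotientGroup.eq_one_iff z).mpr hz, mul_one]
  obtain ⟨k1, h1⟩ := key g1
  obtain ⟨k2, h2⟩ := key g2
  rw [← QuotientGroup.eq_one_iff, ← QuotientGroup.mk'_apply, map_commutatorElement, h1, h2,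
    commutatorElement_eq_one_iff_commute]
  exact (Commute.refl _).zpow_zpow k1 k2

/-- the commutator subgroup of a group with non-abelian simple commutator subgroup lies in no
normal `p`-subgroup -/
theorem not_commutator_le_pCore [Finite G] (hs : IsSimpleGroup ↥(commutator G))
    (hn : ∃ x y : ↥(commutator G), x * y ≠ y * x) (p : ℕ) [Fact p.Prime] :
    ¬ commutator G ≤ pCore p G :=
  fun hle => not_isPGroup_of_simple hs hn p ((pCore_isPGroup' p).to_le hle)

/-- width at least two -/
theorem exists_commute_of_simple [Finite G] (h : TC D) (hs : IsSimpleGroup ↥(commutator G))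
    (hn : ∃ x y : ↥(commutator G), x * y ≠ y * x) {a : G} (ha : a ∈ D) :
    ∃ b ∈ D, b ≠ a ∧ Commute a b := by
  by_contra hcon
  push Not at hcon
  have hone : ∀ x ∈ D, ∀ y ∈ D, Commute x y → x = y := by
    intro x hx y hy hxy
    obtain ⟨g, rfl⟩ := h.hclass a ha x hx
    have hy' : g⁻¹ * y * g ∈ D := h.toTT.hconj' g y hy
    have hc : Commute a (g⁻¹ * y * g) := (TT.commute_conj_iff g a y).mp hxy
    by_contra hne
    apply hcon _ hy' _ hc
    intro e
    apply hne
    rw [← e]
    group
  have hDg : IsThreeTranspositionGroup D := ⟨h.hset, h.hconj, h.hgen⟩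
  have hbdd : BddAbove {n : ℕ | ∃ E : Set G, E ⊆ D ∧ E.Finite ∧ (∀ a ∈ E, ∀ b ∈ E, Commute a b) ∧
      E.ncard = n} := by
    refine ⟨Nat.card G, ?_⟩
    rintro n ⟨E, -, hEf, -, rfl⟩
    exact Set.ncard_le_card E
  have h1S : 1 ∈ {n : ℕ | ∃ E : Set G, E ⊆ D ∧ E.Finite ∧ (∀ a ∈ E, ∀ b ∈ E, Commute a b) ∧
      E.ncard = n} := ⟨{a}, by simpa using ha, Set.finite_singleton a, by
    intro x hx y hy
    rw [Set.mem_singleton_iff] at hx hy
    rw [hx, hy], Set.ncard_singleton a⟩
  have hwidth : commutingWidth D = 1 := by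
    unfold commutingWidth
    apply le_antisymm
    · apply csSup_le ⟨1, h1S⟩
      rintro n ⟨E, hED, hEf, hEc, rfl⟩
      rw [Set.ncard_le_one hEf]
      intro x hx y hy
      exact hone x (hED hx) y (hED hy) (hEc x hx y hy)
    · exact le_csSup hbdd h1S
  have hsup := (Cfsg.Agent.S5346.result hDg ha).mp hwidth
  haveI := pCore_normal' (G := G) 3
  haveI : Fact (Nat.Prime 3) := ⟨Nat.prime_three⟩
  exact not_commutator_le_pCore hs hn 3 (commutator_le_of_zpowers_sup hsup)

/-- primitivity of the conjugation action on `D` -/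
theorem primitive_of_simple' [Finite G] (h : TC D)
    (hw : ∃ a ∈ D, ∃ b ∈ D, a ≠ b ∧ Commute a b)
    (hs : IsSimpleGroup ↥(commutator G)) (hn : ∃ x y : ↥(commutator G), x * y ≠ y * x) :
    IsPrimitiveUnderConj D := by
  obtain ⟨a, ha, b, hb, hab, hc⟩ := id hw
  have hD2 : ∃ a ∈ D, ∃ b ∈ D, a ≠ b := ⟨a, ha, b, hb, hab⟩
  have hmulS : ∀ e ∈ D, ∀ e' ∈ D, e * e' ∈ commutator G := by
    intro e he e' he'
    obtain ⟨g, rfl⟩ := h.hclass e he e' he'
    have : e * (g * e * g⁻¹) = ⁅e, g⁆ := by
      rw [commutatorElement_def, h.inv he]; group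
    rw [this, commutator_def]
    exact Subgroup.commutator_mem_commutator (Subgroup.mem_top e) (Subgroup.mem_top g)
  -- a normal subgroup contains the commutator subgroup or is central
  have dich : ∀ N : Subgroup G, N.Normal → commutator G ≤ N ∨ N ≤ Subgroup.center G := by
    intro N hN
    haveI := hN
    rcases simple_le_or_disjoint (commutator G) N with h1 | h1
    · exact Or.inl h1
    · right
      apply h.le_center_of_commute N ha
      intro n hn
      have h4 : a * n * a⁻¹ * n⁻¹ ∈ N := N.mul_mem (hN.conj_mem n hn a) (N.inv_mem hn)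
      have h5 : a * n * a⁻¹ * n⁻¹ ∈ commutator G := by
        rw [← commutatorElement_def, commutator_def]
        exact Subgroup.commutator_mem_commutator (Subgroup.mem_top a) (Subgroup.mem_top n)
      have h6 := (Subgroup.disjoint_def.mp h1) h4 h5
      show a * n = n * a
      calc a * n = (a * n * a⁻¹ * n⁻¹) * (n * a) := by group
        _ = n * a := by rw [h6, one_mul]
  have hcore : ∀ p : ℕ, p.Prime → pCore p G ≤ Subgroup.center G := by
    intro p hp
    haveI : Fact p.Prime := ⟨hp⟩
    rcases dich (pCore p G) (pCore_normal' p) with h1 | h1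
    · exact (not_commutator_le_pCore hs hn p h1).elim
    · exact h1
  have h3 := hcore 3 Nat.prime_three
  have h2 := hcore 2 Nat.prime_two
  obtain ⟨hcomp, hFs⟩ := h.layer_quasisimple hD2 h2 h3
  haveI := h.component_normal hcomp
  have hLS : layer G ≤ commutator G := by
    rw [commutator_def, ← commutator_layer_layer]
    exact Subgroup.commutator_mono le_top le_top
  have hSL : commutator G ≤ layer G := by
    rcases simple_le_or_disjoint (commutator G) (layer G) with h1 | h1
    · exact h1
    · exfalso
      apply IsQuasisimple.ne_bot hcomp.2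
      exact disjoint_self.mp (h1.mono_right hLS)
  have hidx : (layer G).index ≤ 2 :=
    h.index_le_two (layer G) ha (fun e he => hSL (hmulS a ha e he))
  exact h.primitive hD2 h2 h3 (layer G) hcomp.2 hFs hidx

end Cfsg.Agent.Lib.Helper1.Rank3
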